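import Cfsg.Agent.H419.Spor.Co3
import Cfsg.Agent.BpSpor.CoThreeFive
import Cfsg.Agent.CpAutCo3.MTw
import Cfsg.Agent.SporRec.Co3.Model
import Cfsg.Agent.H710.VanCount
import Cfsg.Agent.H387.VO.Main

/-!
# `Co3` has two classes of 5-singular vanishing elements (helper887, for S4987)

* elements of order 15 of `M23` : the character of degree 23 vanishes;
* `w * y`, `C(w) = 2 × M12`, `y` of order 5 : the centralizer has order at most 20, and `Co3` has at
  least 21 classes.
-/

set_option autoImplicit false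

namespace Cfsg.Agent.H887.SP.Co3

open Cfsg Cfsg.Agent.H713 Cfsg.Agent.H419.Row Cfsg.Agent.H419.LeechFix
  Cfsg.Agent.H419.LeechIrr
open Cfsg.Agent.SporadicA.Co0Mono Cfsg.Agent.SporadicA.Co1Simple
open Cfsg.Agent.H419.Spor.Mathieu Cfsg.Agent.H710.VanCount
open Cfsg.Agent.SporRec.Co3.Chain (G3 isCo3_G3)
open Cfsg.Agent.SporRec.Co3.Ident

universe u

/-! ### elements of `M23` -/

/-- The element of order 15. -/
noncomputable def x15 : M24 := ⟨cubeTwist * T * M, mul_mem (mul_mem C_mem T_mem) M_mem⟩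

theorem x15_order : orderOf x15 = 15 := by
  refine orderOf_eq (by norm_num) ?_ ?_
  · apply Subtype.ext
    show (cubeTwist * T * M) ^ 15 = 1
    apply Equiv.ext
    decide +kernel
  · intro p hp h
    have h1 : (cubeTwist * T * M) ^ (15 / p) = 1 := congrArg Subtype.val h
    have h2 := Equiv.ext_iff.1 h1
    have h3 : p = 3 ∨ p = 5 := by
      have : p ∈ ({3, 5} : Finset ℕ) := by
        rw [show ({3, 5} : Finset ℕ) = (15 : ℕ).primeFactors by decide +kernel]
        exact hp
      simpa using this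
    rcases h3 with rfl | rfl
    · revert h2
      decide +kernel
    · revert h2
      decide +kernel

theorem x15_fix : Nat.card (MulAction.fixedBy GolayPt x15) = 1 := by
  rw [Nat.card_eq_one_iff_exists]
  have h : ∀ p : GolayPt, (cubeTwist * T * M) p = p ↔ p = none := by decide +kernel
  refine ⟨⟨none, (h none).2 rfl⟩, fun q => Subtype.ext ((h q).1 q.2)⟩

noncomputable def y15 : St1 := ⟨x15, by
  show (cubeTwist * T * M) none = none
  decide +kernel⟩

/-- The element of order 8. -/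
noncomputable def x8 : M24 := ⟨cubeTwist * cubeTwist * M * T,
  mul_mem (mul_mem (mul_mem C_mem C_mem) M_mem) T_mem⟩

theorem x8_order : orderOf x8 = 8 := by
  refine orderOf_eq (by norm_num) ?_ ?_
  · apply Subtype.ext
    show (cubeTwist * cubeTwist * M * T) ^ 8 = 1
    apply Equiv.ext
    decide +kernel
  · intro p hp h
    have h1 : (cubeTwist * cubeTwist * M * T) ^ (8 / p) = 1 := congrArg Subtype.val h
    have h2 := Equiv.ext_iff.1 h1
    have h3 : p = 2 := by
      have : p ∈ ({2} : Finset ℕ) := by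
        rw [show ({2} : Finset ℕ) = (8 : ℕ).primeFactors by decide +kernel]
        exact hp
      simpa using this
    subst h3
    revert h2
    decide +kernel

noncomputable def y8 : St1 := ⟨x8, by
  show (cubeTwist * cubeTwist * M * T) none = none
  decide +kernel⟩

theorem order_k (y : St1) : orderOf (Cfsg.Agent.H419.Spor.Co3.k y) = orderOf (y : M24) := by
  rw [← orderOf_injective Cfsg.Agent.H419.Spor.Co3.inc Cfsg.Agent.H419.Spor.Co3.inc_injective,
    Cfsg.Agent.H419.Spor.Co3.inc_k,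
    orderOf_injective permCo0 Cfsg.Agent.CoOneType.Thirteen.permCo0_injective]

theorem order15 : orderOf (Cfsg.Agent.H419.Spor.Co3.k y15) = 15 := by
  rw [order_k]; exact x15_order

theorem order8 : orderOf (Cfsg.Agent.H419.Spor.Co3.k y8) = 8 := by
  rw [order_k]; exact x8_order

theorem card_co3 : Nat.card Spor.Co3 = 495766656000 :=
  (Cfsg.Agent.OddHalf.D8.RowCo3.card_of (K := Spor.Co3) ⟨MulEquiv.refl _⟩).2

instance finite_co3 : Finite Spor.Co3 := Nat.finite_of_card_ne_zero (by rw [card_co3]; norm_num)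

/-- The first vanishing element. -/
theorem vz15 : VZ Spor.Co3 (Cfsg.Agent.H419.Spor.Co3.k y15) := by
  obtain ⟨hs, hcard⟩ := Cfsg.Agent.OddHalf.D8.RowCo3.card_of (K := Spor.Co3) ⟨MulEquiv.refl _⟩
  obtain ⟨μ, hμ⟩ := irr23 Cfsg.Agent.H419.Spor.Co3.inc Cfsg.Agent.H419.Spor.Co3.inc_injective
    (by rw [hcard]; norm_num) Cfsg.Agent.H419.Spor.Co3.k ⟨Cfsg.Agent.H419.Spor.Co3.y14, fun h => by
      have := Cfsg.Agent.H419.Spor.Co3.order
      rw [h, orderOf_one] at this
      norm_num at this⟩ Cfsg.Agent.H419.Spor.Co3.inc_k (w := Spor.leechV) (fun h => by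
        have := congrArg (fun v : leechLattice => (v : GolayPt → ℤ) none) h
        exact absurd this (by decide)) Cfsg.Agent.H419.Spor.Co3.inc_fix
  have hv : Van Spor.Co3 (Cfsg.Agent.H419.Spor.Co3.k y15) := by
    refine ⟨μ, ?_⟩
    have h1 := hμ (Cfsg.Agent.H419.Spor.Co3.k y15)
    rw [lchi_perm Cfsg.Agent.H419.Spor.Co3.inc
      (Cfsg.Agent.H419.Spor.Co3.inc_k y15)] at h1
    have h2 : Nat.card (MulAction.fixedBy GolayPt ((y15 : St1) : M24)) = 1 := x15_fix
    rw [h2] at h1
    simpa using h1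
  exact Cfsg.Agent.H419.Count.vz_of_inner hv (inner_of_out Cfsg.Agent.S2071.result)

/-! ### elements of `2.Sp₆(2)` -/

section words

open Cfsg.Agent.Lib.PackMat Cfsg.Agent.SporRec.LeechMod3 Cfsg.Agent.SporRec.LeechChain
  Cfsg.Agent.SporRec.Co3.MatData Cfsg.Agent.SporRec.Co3.ChainData Cfsg.Agent.SporRec.Co3.Chain

theorem mw_ne {u : List ℕ} (hu : wok gs0 (u.flatMap exl) = true)
    (h : Nat.beq (run cfg (wmats gs0 (u.flatMap exl)) V4) V4 = false) : mw A Z W0 u ≠ 1 := by
  intro h1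
  have h2 := congrArg Subtype.val h1
  rw [coe_mw] at h2
  exact word_ne_one (gs := gs0) (g := el) (fun k hk => (el_spec k hk).2) hu (okR_of row4) h h2

theorem mw_pow (l : List ℕ) (n : ℕ) : mw A Z W0 (List.replicate n l).flatten = mw A Z W0 l ^ n := by
  induction n with
  | zero => rfl
  | succ n ih => rw [List.replicate_succ, List.flatten_cons, mw_append, ih, pow_succ']

def w5 : List ℕ := [0, 2, 3, 1, 0, 2, 3, 1]
def w3 : List ℕ := [5, 6, 5, 6]
def w9 : List ℕ := [0, 1, 2, 3, 4, 5, 6]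

noncomputable def v5 : G3 := mw A Z W0 w5
noncomputable def v3 : G3 := mw A Z W0 w3
noncomputable def v9 : G3 := mw A Z W0 w9

theorem v5_pow : v5 ^ 5 = 1 := by
  rw [v5, ← mw_pow]
  exact mw_eq (v := []) (by decide +kernel)

theorem v3_pow : v3 ^ 3 = 1 := by
  rw [v3, ← mw_pow]
  exact mw_eq (v := []) (by decide +kernel)

theorem v9_pow : v9 ^ 9 = 1 := by
  rw [v9, ← mw_pow]
  exact mw_eq (v := []) (by decide +kernel)

theorem v5_ne : v5 ≠ 1 := mw_ne (by decide +kernel) (by decide +kernel)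

theorem v3_ne : v3 ≠ 1 := mw_ne (by decide +kernel) (by decide +kernel)

theorem v9_ne : v9 ^ 3 ≠ 1 := by
  rw [v9, ← mw_pow]
  exact mw_ne (by decide +kernel) (by decide +kernel)

theorem v5_v3 : Commute v5 v3 := by
  show v5 * v3 = v3 * v5
  rw [v5, v3, ← mw_append, ← mw_append]
  exact mw_eq (by decide +kernel)

theorem A0_v3 : Commute (A 0) v3 := by
  show A 0 * v3 = v3 * A 0
  have h : A 0 = mw A Z W0 [0] := (mw_a A Z W0 0).symm
  rw [h, v3, ← mw_append, ← mw_append]
  exact mw_eq (by decide +kernel)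

theorem A6_v5 : Commute (A 6) v5 := by
  show A 6 * v5 = v5 * A 6
  have h : A 6 = mw A Z W0 [6] := (mw_a A Z W0 6).symm
  rw [h, v5, ← mw_append, ← mw_append]
  exact mw_eq (by decide +kernel)

theorem Z_mw (l : List ℕ) (h : chk ([7] ++ l) (l ++ [7]) = true) : Commute Z (mw A Z W0 l) := by
  show Z * mw A Z W0 l = mw A Z W0 l * Z
  have h1 := mw_eq h
  rwa [mw_append, mw_append, mw_z] at h1

theorem Z_v5 : Commute Z v5 := Z_mw _ (by decide +kernel)

theorem Z_v3 : Commute Z v3 := Z_mw _ (by decide +kernel)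

theorem Z_v9 : Commute Z v9 := Z_mw _ (by decide +kernel)

end words

theorem order_Z : orderOf Z = 2 := orderOf_eq_prime (by rw [pow_two, Z_sq]) Z_ne

theorem order_A (i : Fin 7) : orderOf (A i) = 4 := by
  have h := orderOf_eq_prime_pow (x := A i) (p := 2) (n := 1)
    (by rw [pow_one, pow_two, A_sq]; exact Z_ne)
    (by rw [show 2 ^ (1 + 1) = 2 * 2 from rfl, pow_mul, pow_two (A i), A_sq, pow_two, Z_sq])
  exact h

theorem order_v5 : orderOf v5 = 5 := by
  have : Fact (Nat.Prime 5) := ⟨by norm_num⟩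
  exact orderOf_eq_prime v5_pow v5_ne

theorem order_v3 : orderOf v3 = 3 := by
  have : Fact (Nat.Prime 3) := ⟨by norm_num⟩
  exact orderOf_eq_prime v3_pow v3_ne

theorem order_v9 : orderOf v9 = 9 := by
  have : Fact (Nat.Prime 3) := ⟨by norm_num⟩
  have h := orderOf_eq_prime_pow (x := v9) (p := 3) (n := 1) (by rw [pow_one]; exact v9_ne)
    (by exact v9_pow)
  exact h

theorem order_mul {G : Type*} [Group G] {x y : G} {m n : ℕ} (h : Commute x y) (hx : orderOf x = m)
    (hy : orderOf y = n) (hmn : m.Coprime n) : orderOf (x * y) = m * n := by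
  rw [h.orderOf_mul_eq_mul_orderOf_of_coprime (by rwa [hx, hy]), hx, hy]

/-! ### the second class of involutions -/

open Cfsg.Agent.CpAutCo3.MTw (ww ww_sq ww_ne ee wC wC_sq ker_cases)
open Cfsg.Agent.SigZero
open Cfsg.Agent.CpAut.SmallP (DD mem_DD)

/-- `C(ww) → M12` with kernel `⟨ww⟩` -/
theorem exists_f : ∃ f : Subgroup.centralizer ({ww} : Set G3) →* Spor.M12,
    ∀ g, f g = 1 → g = 1 ∨ (g : G3) = ww := by
  have hm : ∀ g ∈ Subgroup.centralizer ({ww} : Set G3), ee.symm g ∈ CoThreeB.C := by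
    intro g hg
    rw [CoThreeB.mem_C]
    apply ee.injective
    rw [map_mul, map_mul, ee.apply_symm_apply]
    exact Subgroup.mem_centralizer_singleton_iff.1 hg
  let k : Subgroup.centralizer ({ww} : Set G3) →* CoThreeB.C :=
    (ee.symm.toMonoidHom.comp (Subgroup.subtype _)).codRestrict _ (fun g => hm g g.2)
  refine ⟨CoThreeB.proj.comp k, ?_⟩
  intro g hg
  rcases CoThreeB.ker_proj (g := k g) hg with h | h
  · left
    have h1 : ee.symm (g : G3) = 1 := congrArg Subtype.val h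
    apply Subtype.ext
    rw [← ee.apply_symm_apply (g : G3), h1, map_one]
    rfl
  · right
    have h1 : ee.symm (g : G3) = CoThreeB.wK := h
    exact (ee.symm_apply_eq.1 h1)

theorem card_DD {y : G3} (hy : orderOf y = 5) (hc : ww * y = y * ww) : Nat.card ↥(DD y ww) ∣ 4 * 5 := by
  have := Cfsg.Agent.CpAutCo3.MTw.finG
  obtain ⟨f, hf⟩ := exists_f
  exact Cfsg.Agent.CpAutCoThreeFive.card_dvd_twenty ww_sq f hf hy hc

theorem order_ww : orderOf ww = 2 := orderOf_eq_prime (by rw [pow_two, ww_sq]) ww_ne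

theorem Z_ww (g : G3) : g * Z * g⁻¹ ≠ ww := by
  intro hg
  have := Cfsg.Agent.CpAutCo3.MTw.finG
  have hy : orderOf (g * v5 * g⁻¹) = 5 := by
    rw [← order_v5]
    exact MulEquiv.orderOf_eq (MulAut.conj g) v5
  have hyc : ww * (g * v5 * g⁻¹) = g * v5 * g⁻¹ * ww := by
    rw [← hg]
    have := Z_v5.eq
    calc g * Z * g⁻¹ * (g * v5 * g⁻¹) = g * (Z * v5) * g⁻¹ := by group
      _ = g * (v5 * Z) * g⁻¹ := by rw [this]
      _ = g * v5 * g⁻¹ * (g * Z * g⁻¹) := by group
  have h1 := card_DD hy hyc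
  have h3 : g * v3 * g⁻¹ ∈ DD (g * v5 * g⁻¹) ww := by
    rw [mem_DD, ← hg]
    have e1 := Z_v3.eq
    have e2 := v5_v3.eq
    constructor
    · calc g * v3 * g⁻¹ * (g * Z * g⁻¹) = g * (v3 * Z) * g⁻¹ := by group
        _ = g * (Z * v3) * g⁻¹ := by rw [e1]
        _ = g * Z * g⁻¹ * (g * v3 * g⁻¹) := by group
    · calc g * v3 * g⁻¹ * (g * v5 * g⁻¹) = g * (v3 * v5) * g⁻¹ := by group
        _ = g * (v5 * v3) * g⁻¹ := by rw [e2]
        _ = g * v5 * g⁻¹ * (g * v3 * g⁻¹) := by group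
  have h4 : orderOf (g * v3 * g⁻¹) = 3 := by
    rw [← order_v3]
    exact MulEquiv.orderOf_eq (MulAut.conj g) v3
  have h5 : 3 ∣ Nat.card ↥(DD (g * v5 * g⁻¹) ww) := by
    rw [← h4, ← Subgroup.orderOf_mk _ h3]
    exact orderOf_dvd_natCard _
  have h6 := h5.trans h1
  norm_num at h6

/-- Elements of odd prime order commuting with `ww`. -/
theorem exists_comm {r : ℕ} [hr : Fact r.Prime] (hr2 : r ≠ 2) (hd : r ∣ Nat.card Spor.M12) :
    ∃ y : G3, orderOf y = r ∧ Commute ww y := by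
  have hf : Finite Spor.M12 := inferInstance
  obtain ⟨m, hm⟩ := exists_prime_orderOf_dvd_card' r hd
  obtain ⟨g, hg⟩ := CoThreeB.proj_surj m
  have h1 : CoThreeB.proj (g ^ r) = 1 := by rw [map_pow, hg, ← hm, pow_orderOf_eq_one]
  have h2 : g ^ r * g ^ r = 1 := by
    rcases ker_cases h1 with h | h
    · rw [h, one_mul]
    · rw [h, wC_sq]
  have h3 : (g ^ 2) ^ r = 1 := by
    rw [← pow_mul, mul_comm, pow_mul, pow_two, h2]
  have h4 : g ^ 2 ≠ 1 := by
    intro h
    have h5 : m ^ 2 = 1 := by rw [← hg, ← map_pow, h, map_one]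
    have h6 := orderOf_dvd_of_pow_eq_one h5
    rw [hm] at h6
    exact hr2 ((Nat.prime_dvd_prime_iff_eq hr.out Nat.prime_two).1 h6)
  have h5 : orderOf (g ^ 2) = r := orderOf_eq_prime h3 h4
  refine ⟨ee ((g ^ 2 : CoThreeB.C) : CoThreeB.K), ?_, ?_⟩
  · rw [MulEquiv.orderOf_eq]
    rw [← h5]
    exact orderOf_injective CoThreeB.C.subtype Subtype.val_injective (g ^ 2)
  · show ee CoThreeB.wK * _ = _ * ee CoThreeB.wK
    rw [← map_mul, ← map_mul, CoThreeB.mem_C.1 (g ^ 2 : CoThreeB.C).2]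

/-- Powers of `z * a`. -/
theorem pow_odd {G : Type*} [Group G] {z a : G} {r : ℕ} (hr : Odd r) (hz : z * z = 1) (ha : a ^ r = 1)
    (h : Commute z a) : (z * a) ^ r = z := by
  obtain ⟨k, rfl⟩ := hr
  rw [h.mul_pow, ha, mul_one, pow_succ, pow_mul, pow_two, hz, one_pow, one_mul]

theorem not_conj {r : ℕ} (hr : Odd r) {a b : G3} (ha : a ^ r = 1) (hb : b ^ r = 1) (hZ : Commute Z a)
    (hW : Commute ww b) : ¬ IsConj (Z * a) (ww * b) := by
  intro h
  obtain ⟨c, hc⟩ := isConj_iff.1 h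
  apply Z_ww c
  rw [← pow_odd hr Z_sq ha hZ, ← conj_pow, hc, pow_odd hr ww_sq hb hW]

/-- The centralizer of `ww * y`. -/
theorem card_cent {y : G3} (hy : orderOf y = 5) (hc : Commute ww y) :
    Nat.card (Subgroup.centralizer ({ww * y} : Set G3)) ≤ 20 := by
  have := Cfsg.Agent.CpAutCo3.MTw.finG
  have hle : Subgroup.centralizer ({ww * y} : Set G3) ≤ DD y ww := by
    intro g hg
    have h1 : Commute g (ww * y) := Subgroup.mem_centralizer_singleton_iff.1 hg
    have h2 : Commute g ww := by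
      have h3 := h1.pow_right 5
      rwa [pow_odd (by decide) ww_sq (by rw [← hy, pow_orderOf_eq_one]) hc] at h3
    have h3 : Commute g y := by
      have h4 := h2.mul_right h1
      rwa [← mul_assoc, ww_sq, one_mul] at h4
    exact mem_DD.2 ⟨h2, h3⟩
  have h1 := Subgroup.card_dvd_of_le hle
  exact Nat.le_of_dvd (by norm_num) (h1.trans (card_DD hy hc))

/-! ### the number of classes -/

open Cfsg.Agent.SporRec.Co3.Model (equivCo3)

theorem exists_of_G3 {n : ℕ} (x : G3) (hx : orderOf x = n) : ∃ g : Spor.Co3, orderOf g = n :=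
  ⟨equivCo3 x, by rw [MulEquiv.orderOf_eq, hx]⟩

theorem exists_prime {r : ℕ} (hr : r.Prime) (hd : r ∣ 495766656000) : ∃ g : Spor.Co3, orderOf g = r := by
  have : Fact r.Prime := ⟨hr⟩
  exact exists_prime_orderOf_dvd_card' r (by rwa [card_co3])

theorem not_isConj_equiv {G H : Type*} [Group G] [Group H] (e : G ≃* H) {x y : G} (h : ¬ IsConj x y) :
    ¬ IsConj (e x) (e y) := by
  intro h1
  apply h
  obtain ⟨c, hc⟩ := isConj_iff.1 h1
  refine isConj_iff.2 ⟨e.symm c, e.injective ?_⟩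
  rw [map_mul, map_mul, map_inv, e.apply_symm_apply, hc]

theorem two_of_G3 {n : ℕ} (x y : G3) (hx : orderOf x = n) (hy : orderOf y = n) (h : ¬ IsConj x y) :
    ∃ g g' : Spor.Co3, orderOf g = n ∧ orderOf g' = n ∧ ¬ IsConj g g' :=
  ⟨equivCo3 x, equivCo3 y, by rw [MulEquiv.orderOf_eq, hx], by rw [MulEquiv.orderOf_eq, hy],
    not_isConj_equiv _ h⟩

theorem card_M12 : Nat.card Spor.M12 = 95040 := Cfsg.Agent.MTwelveType.SylowModel.card_M12

theorem classes : 21 ≤ Nat.card (ConjClasses Spor.Co3) := by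
  have h3 : Fact (Nat.Prime 3) := ⟨by norm_num⟩
  have h5 : Fact (Nat.Prime 5) := ⟨by norm_num⟩
  obtain ⟨b3, hb3, hc3⟩ := exists_comm (r := 3) (by norm_num) (by rw [card_M12]; norm_num)
  obtain ⟨b5, hb5, hc5⟩ := exists_comm (r := 5) (by norm_num) (by rw [card_M12]; norm_num)
  have hcard : ({1, 2, 3, 4, 5, 6, 7, 8, 9, 10, 11, 12, 14, 15, 18, 20, 23, 30} : Finset ℕ).card +
      ({2, 6, 10} : Finset ℕ).card = 21 := by decide
  rw [← hcard]
  refine le_card_conjClasses_two (G := Spor.Co3)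
    {1, 2, 3, 4, 5, 6, 7, 8, 9, 10, 11, 12, 14, 15, 18, 20, 23, 30} {2, 6, 10} ?_ ?_
  · intro n hn
    simp only [Finset.mem_insert, Finset.mem_singleton] at hn
    rcases hn with rfl | rfl | rfl | rfl | rfl | rfl | rfl | rfl | rfl | rfl | rfl | rfl | rfl | rfl | rfl |
      rfl | rfl | rfl
    · exact ⟨1, orderOf_one⟩
    · exact exists_of_G3 _ order_Z
    · exact exists_of_G3 _ order_v3
    · exact exists_of_G3 _ (order_A 0)
    · exact exists_of_G3 _ order_v5
    · exact exists_of_G3 _ (order_mul Z_v3 order_Z order_v3 (by decide))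
    · exact exists_prime (by norm_num) (by norm_num)
    · exact ⟨_, order8⟩
    · exact exists_of_G3 _ order_v9
    · exact exists_of_G3 _ (order_mul Z_v5 order_Z order_v5 (by decide))
    · exact exists_prime (by norm_num) (by norm_num)
    · exact exists_of_G3 _ (order_mul A0_v3 (order_A 0) order_v3 (by decide))
    · exact ⟨_, Cfsg.Agent.H419.Spor.Co3.order⟩
    · exact ⟨_, order15⟩
    · exact exists_of_G3 _ (order_mul Z_v9 order_Z order_v9 (by decide))
    · exact exists_of_G3 _ (order_mul A6_v5 (order_A 6) order_v5 (by decide))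
    · exact exists_prime (by norm_num) (by norm_num)
    · exact exists_of_G3 _ (order_mul (Z_v5.mul_right Z_v3) order_Z
        (order_mul v5_v3 order_v5 order_v3 (by decide)) (by decide))
  · intro n hn
    simp only [Finset.mem_insert, Finset.mem_singleton] at hn
    rcases hn with rfl | rfl | rfl
    · refine two_of_G3 Z ww order_Z order_ww fun h => ?_
      obtain ⟨c, hc⟩ := isConj_iff.1 h
      exact Z_ww c hc
    · exact two_of_G3 _ _ (order_mul Z_v3 order_Z order_v3 (by decide))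
        (order_mul hc3 order_ww hb3 (by decide))
        (not_conj (r := 3) (by decide) v3_pow (by rw [← hb3, pow_orderOf_eq_one]) Z_v3 hc3)
    · exact two_of_G3 _ _ (order_mul Z_v5 order_Z order_v5 (by decide))
        (order_mul hc5 order_ww hb5 (by decide))
        (not_conj (r := 5) (by decide) v5_pow (by rw [← hb5, pow_orderOf_eq_one]) Z_v5 hc5)

/-! ### the result -/

theorem exists_vz10 : ∃ x : Spor.Co3, orderOf x = 10 ∧ VZ Spor.Co3 x := by
  have h5 : Fact (Nat.Prime 5) := ⟨by norm_num⟩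
  obtain ⟨b5, hb5, hc5⟩ := exists_comm (r := 5) (by norm_num) (by rw [card_M12]; norm_num)
  refine ⟨equivCo3 (ww * b5), ?_, ?_⟩
  · rw [MulEquiv.orderOf_eq]
    exact order_mul hc5 order_ww hb5 (by decide)
  · refine vz_of_card_inner _ ?_ fun α => ?_
    · rw [Cfsg.Agent.CpAutCo3.MTw.card_cent]
      exact lt_of_le_of_lt (card_cent hb5 hc5) (lt_of_lt_of_le (by norm_num) classes)
    · obtain ⟨g, hg⟩ := inner_of_out Cfsg.Agent.S2071.result α
      exact ⟨g, hg.symm⟩

/-- **`Co3`, `p = 5`** -/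
theorem two_co3_5 {K : Type u} [Group K] (h : Spor.IsoCo3 K) : Cfsg.Agent.H387.VO.TwoVan 5 K := by
  obtain ⟨e⟩ := h
  obtain ⟨x, hx, hv⟩ := exists_vz10
  refine (Cfsg.Agent.H387.VO.TwoVan.of_order (x := x) (y := Cfsg.Agent.H419.Spor.Co3.k y15) ?_ ?_ hv vz15
    ?_).mulEquiv e.symm
  · rw [hx]; norm_num
  · rw [order15]; norm_num
  · rw [hx, order15]; norm_num

end Cfsg.Agent.H887.SP.Co3
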